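import Mathlib

/-!
Every linear map of a finite-dimensional space is self-adjoint for some non-degenerate bilinear
form; hence every square matrix over a field is similar to its transpose.
-/

namespace CfsgLib.TaZa

variable {F : Type*} [Field F]

open Polynomial in
/-- On `F[X] ⧸ (f)` there is a functional whose kernel contains no non-zero ideal. -/
theorem exists_functional (f : F[X]) (hf : f ≠ 0) :
    ∃ lam : (F[X] ⧸ Ideal.span ({f} : Set F[X])) →+ F,
      (∀ (c : F) a, lam (Ideal.Quotient.mk _ (C c) * a) = c * lam a) ∧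
      ∀ a, (∀ b, lam (a * b) = 0) → a = 0 := by
  set g := f * C f.leadingCoeff⁻¹ with hg
  have hgm : g.Monic := monic_mul_leadingCoeff_inv hf
  have hunit : IsUnit (C f.leadingCoeff⁻¹) :=
    isUnit_C.mpr (isUnit_iff_ne_zero.mpr (inv_ne_zero (leadingCoeff_ne_zero.mpr hf)))
  have hdvd : ∀ q : F[X], q ∈ Ideal.span ({f} : Set F[X]) ↔ g ∣ q := fun q => by
    rw [Ideal.mem_span_singleton, hg, hunit.mul_right_dvd]
  let phi : F[X] →+ F :=
    { toFun := fun q => (q %ₘ g).coeff (g.natDegree - 1)
      map_zero' := by simp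
      map_add' := fun a b => by rw [add_modByMonic, coeff_add] }
  have hphi : ∀ q, phi q = (q %ₘ g).coeff (g.natDegree - 1) := fun q => rfl
  let lam : (F[X] ⧸ Ideal.span ({f} : Set F[X])) →+ F := QuotientAddGroup.lift (Ideal.span ({f} : Set F[X])).toAddSubgroup phi (fun q hq => by
    rw [AddMonoidHom.mem_ker, hphi, (modByMonic_eq_zero_iff_dvd hgm).mpr ((hdvd q).mp hq), coeff_zero])
  have hlam : ∀ q, lam (Ideal.Quotient.mk _ q) = phi q := fun q => rfl
  refine ⟨lam, fun c a => ?_, fun a ha => ?_⟩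
  · obtain ⟨q, rfl⟩ := Ideal.Quotient.mk_surjective a
    rw [← map_mul, hlam, hlam, hphi, hphi, ← smul_eq_C_mul, smul_modByMonic, coeff_smul, smul_eq_mul]
  · obtain ⟨q, rfl⟩ := Ideal.Quotient.mk_surjective a
    rw [Ideal.Quotient.eq_zero_iff_mem, hdvd, ← modByMonic_eq_zero_iff_dvd hgm]
    by_contra hr
    set r := q %ₘ g with hrdef
    have hd : r.natDegree < g.natDegree := natDegree_modByMonic_lt q hgm (fun h => hr (by rw [hrdef, h, modByMonic_one]))
    have h0 := ha (Ideal.Quotient.mk _ (X ^ (g.natDegree - 1 - r.natDegree)))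
    rw [← map_mul, hlam, hphi] at h0
    have hq : (q * X ^ (g.natDegree - 1 - r.natDegree)) %ₘ g =
        (r * X ^ (g.natDegree - 1 - r.natDegree)) %ₘ g := by
      apply modByMonic_eq_of_dvd_sub hgm
      rw [← sub_mul]
      exact dvd_mul_of_dvd_left ⟨q /ₘ g, by
        have := modByMonic_add_div q g
        rw [← hrdef] at this
        linear_combination -this⟩ _
    have hne : r * X ^ (g.natDegree - 1 - r.natDegree) ≠ 0 := mul_ne_zero hr (pow_ne_zero _ X_ne_zero)
    have hdeg : (r * X ^ (g.natDegree - 1 - r.natDegree)).natDegree = g.natDegree - 1 := by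
      rw [natDegree_mul hr (pow_ne_zero _ X_ne_zero), natDegree_X_pow]; omega
    rw [hq, (modByMonic_eq_self_iff hgm).mpr (by
      rw [degree_eq_natDegree hne, degree_eq_natDegree hgm.ne_zero, Nat.cast_lt, hdeg]; omega)] at h0
    have h1 : (r * X ^ (g.natDegree - 1 - r.natDegree)).coeff (r * X ^ (g.natDegree - 1 - r.natDegree)).natDegree = 0 :=
      hdeg.symm ▸ h0
    rw [coeff_natDegree, leadingCoeff_eq_zero] at h1
    exact hne h1

open Polynomial in
/-- A linear map is self-adjoint for some bilinear form with trivial radical. -/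
theorem exists_selfAdjoint_form {V : Type*} [AddCommGroup V] [Module F V] [FiniteDimensional F V]
    (T : Module.End F V) :
    ∃ B : LinearMap.BilinForm F V, (∀ v w, B (T v) w = B v (T w)) ∧
      ∀ v, (∀ w, B v w = 0) → v = 0 := by
  classical
  obtain ⟨ι, hι, p, hp, e, ⟨φ⟩⟩ := Module.equiv_directSum_of_isTorsion
    (Module.AEval.isTorsion_of_finiteDimensional F V T)
  let f : ι → F[X] := fun i => p i ^ e i
  have hf : ∀ i, f i ≠ 0 := fun i => pow_ne_zero _ (hp i).ne_zero
  let ψ : V → ∀ i, F[X] ⧸ Ideal.span ({f i} : Set F[X]) :=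
    fun v i => DirectSum.linearEquivFunOnFintype F[X] ι _ (φ (Module.AEval'.of T v)) i
  have hmk : ∀ (r : F[X]) (a : ∀ i, F[X] ⧸ Ideal.span ({f i} : Set F[X])) i,
      (r • a) i = Ideal.Quotient.mk _ r * a i := fun r a i => by
    obtain ⟨q, hq⟩ := Ideal.Quotient.mk_surjective (a i)
    rw [Pi.smul_apply, ← hq]
    rfl
  have hadd : ∀ v w i, ψ (v + w) i = ψ v i + ψ w i := fun v w i => by
    simp only [ψ, map_add]; rfl
  have hsmul : ∀ (c : F) v i, ψ (c • v) i = Ideal.Quotient.mk _ (C c) * ψ v i := fun c v i => by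
    simp only [ψ]
    rw [LinearEquiv.map_smul, ← algebraMap_smul F[X] c (Module.AEval'.of T v), map_smul, map_smul]
    exact hmk _ _ i
  have hX : ∀ v i, ψ (T v) i = Ideal.Quotient.mk _ X * ψ v i := fun v i => by
    simp only [ψ]
    rw [← Module.AEval'.X_smul_of, map_smul, map_smul]
    exact hmk _ _ i
  choose lam hlC hlnd using fun i => exists_functional (f i) (hf i)
  refine ⟨LinearMap.mk₂ F (fun v w => ∑ i, lam i (ψ v i * ψ w i))
    (fun a b c => by simp only [hadd, add_mul, map_add, Finset.sum_add_distrib])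
    (fun c a b => by simp only [hsmul, mul_assoc, hlC, smul_eq_mul, Finset.mul_sum])
    (fun a b c => by simp only [hadd, mul_add, map_add, Finset.sum_add_distrib])
    (fun c a b => by simp only [hsmul, mul_left_comm _ (Ideal.Quotient.mk _ (C c)), hlC, smul_eq_mul, Finset.mul_sum]),
    fun v w => ?_, fun v hv => ?_⟩
  · simp only [LinearMap.mk₂_apply, hX]
    exact Finset.sum_congr rfl fun i _ => congrArg (lam i) (by ring)
  · suffices h : ∀ i, ψ v i = 0 by
      have h1 : DirectSum.linearEquivFunOnFintype F[X] ι _ (φ (Module.AEval'.of T v)) = 0 := funext h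
      rwa [LinearEquiv.map_eq_zero_iff, LinearEquiv.map_eq_zero_iff, LinearEquiv.map_eq_zero_iff] at h1
    intro i
    refine hlnd i _ fun b => ?_
    obtain ⟨w, hw⟩ : ∃ w, ψ w = Pi.single i b := by
      refine ⟨(Module.AEval'.of T).symm (φ.symm ((DirectSum.linearEquivFunOnFintype F[X] ι _).symm (Pi.single i b))), ?_⟩
      funext j
      simp only [ψ, LinearEquiv.apply_symm_apply]
    have := hv w
    simp only [LinearMap.mk₂_apply, hw] at this
    rw [Finset.sum_eq_single i (fun j _ hj => by rw [Pi.single_eq_of_ne hj, mul_zero, map_zero])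
      (fun h => absurd (Finset.mem_univ i) h), Pi.single_eq_same] at this
    exact this

/-- Every square matrix over a field is similar to its transpose. -/
theorem isConj_transpose {n : Type*} [Fintype n] [DecidableEq n] (A : Matrix n n F) :
    IsConj A A.transpose := by
  obtain ⟨B, hB, hnd⟩ := exists_selfAdjoint_form (Matrix.toLin' A)
  set S := LinearMap.toMatrix₂' F B with hS
  have hdet : S.det ≠ 0 := by
    intro h
    obtain ⟨v, hv0, hv⟩ := Matrix.exists_vecMul_eq_zero_iff.mpr h
    refine hv0 (hnd v fun w => ?_)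
    rw [← Matrix.toLinearMap₂'_toMatrix' (R := F) B, Matrix.toLinearMap₂'_apply', ← hS,
      Matrix.dotProduct_mulVec, hv, zero_dotProduct]
  have hu : IsUnit S := (Matrix.isUnit_iff_isUnit_det S).mpr (isUnit_iff_ne_zero.mpr hdet)
  obtain ⟨c, hc⟩ := hu
  refine ⟨c, ?_⟩
  show (c : Matrix n n F) * A = A.transpose * (c : Matrix n n F)
  rw [hc]
  have h1 : LinearMap.toMatrix₂' F (B.compl₂ (Matrix.toLin' A)) =
      LinearMap.toMatrix₂' F (LinearMap.comp B (Matrix.toLin' A)) :=
    congrArg _ (LinearMap.ext₂ fun v w => (hB v w).symm)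
  rwa [LinearMap.toMatrix₂'_compl₂, LinearMap.toMatrix₂'_comp, LinearMap.toMatrix'_toLin'] at h1

end CfsgLib.TaZa
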